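import Mathlib
import Cfsg.Prelude.Def_ChevStructure
import Cfsg.Prelude.Def_LieTwisted
import Cfsg.Agent.Lib.Helper5.F4T.Core
import Cfsg.Agent.Lib.Helper5.F4T.Gen2
import Cfsg.Agent.Lib.Helper5.F4T.Order
import Cfsg.Agent.Lib.Helper5.F4T.Finite
import Cfsg.Agent.Lib.Helper5.TwAutDefs

set_option autoImplicit false

/-!
# F4OUT farm (S2128, `|Out(²F₄(q))| = 2m+1`): definitions

`G1 = fixG m = twistedF4 K (2^m)`; the four families of generators `x1 y1 x2 y2`; the elements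
`n1 n2 n0` of `N ∩ G1`; the set `A0` of automorphisms preserving `U ∩ G1` and `V ∩ G1`.
-/

namespace Cfsg.Agent.Lib.Helper1.F4Out

open Cfsg Cfsg.Lie Cfsg.Agent.Lib.Helper5.ChevSym Cfsg.Agent.Lib.Helper5.ChevSymP
  Cfsg.Agent.Lib.Helper5.ChevStruct Cfsg.Agent.Lib.Helper5.Ree Cfsg.Agent.Lib.Helper5.TwX
  Cfsg.Agent.Lib.Helper5.MatPow Cfsg.Agent.Lib.Helper5.F4T Cfsg.Agent.Lib.Helper5.TwAut

variable {K : Type*} [Field K] [CharP K 2] (m : ℕ)

/-- `x₁(t) = x_{p₁}(t^θ) x_{p₄}(t)` -/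
noncomputable def x1 (t : K) : GL chevF4.Idx K := wordGL chevF4 hF4 [(33, ph m t), (24, t)]

/-- `y₁(t) = x_{-p₁}(t^θ) x_{-p₄}(t)` -/
noncomputable def y1 (t : K) : GL chevF4.Idx K := wordGL chevF4 hF4 [(14, ph m t), (23, t)]

/-- `x₂(t, u) = x_a(t^θ) x_b(t) x_{a+b}(t^{θ+1} + u) x_{2a+b}(u^{2θ})`, `a = p₂`, `b = p₃` -/
noncomputable def x2 (t u : K) : GL chevF4.Idx K :=
  wordGL chevF4 hF4 [(27, ph m t), (25, t), (28, t * ph m t + u), (30, ps m u)]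

/-- `y₂(t, u)`: the same with the negative roots -/
noncomputable def y2 (t u : K) : GL chevF4.Idx K :=
  wordGL chevF4 hF4 [(20, ph m t), (22, t), (19, t * ph m t + u), (17, ps m u)]

/-- `n₁ = n_{[0,3]}` -/
noncomputable def n1 : GL chevF4.Idx K := wGL chevF4 hF4 [0, 3]

/-- `n₂ = n_{[1,2,1,2]}` -/
noncomputable def n2 : GL chevF4.Idx K := wGL chevF4 hF4 [1, 2, 1, 2]

/-- `n₀`, a representative of the longest element -/
noncomputable def n0 : GL chevF4.Idx K := wGL chevF4 hF4 w0Js.flatten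

/-- the automorphisms of `G1` preserving `U ∩ G1` and `V ∩ G1` -/
def InA0 (θ : ↥(fixG (K := K) m) ≃* ↥(fixG (K := K) m)) : Prop :=
  MapsT (fixG (K := K) m) θ (chevF4.posUnipotent K) (chevF4.posUnipotent K) ∧
  MapsT (fixG (K := K) m) θ (chevF4.negUnipotent K) (chevF4.negUnipotent K)

end Cfsg.Agent.Lib.Helper1.F4Out
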