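import Mathlib
import Cfsg.Agent.Lib.Helper1.F4Out.Defs
import Cfsg.Agent.Lib.Helper1.AutGen
import Cfsg.Agent.Lib.Helper1.AutGlue
import Cfsg.Agent.Lib.Helper1.TwAutA1g
import Cfsg.Agent.Lib.Helper1.TwAutA14
import Cfsg.Agent.Lib.Helper1.TwAutB4
import Cfsg.Agent.Lib.Helper1.TwAutA2b
import Cfsg.Agent.Lib.Helper4.TwAutA2a
import Cfsg.Agent.Lib.Helper4.BNPair2
import Cfsg.Agent.Lib.Helper4.AutB1a

set_option autoImplicit false
set_option linter.unusedVariables false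
set_option linter.unusedSectionVars false

/-!
# F4OUT farm, part A: Sylow and Bruhat

* `exists_conj_inA0`: every automorphism of `G1 = ²F₄(q)` is, up to an inner automorphism, in `A0`.
* `mem_borel_iff`, `mem_negBorel_iff`, `mem_diag_iff`: `B ∩ G1 = N(U ∩ G1)` etc.
* `inA0_borel`, `inA0_diag`.
-/

namespace Cfsg.Agent.Lib.Helper1.F4Out

open Cfsg Cfsg.Lie Cfsg.Agent.Lib.Helper5.ChevSym Cfsg.Agent.Lib.Helper5.ChevSymP
  Cfsg.Agent.Lib.Helper5.ChevStruct Cfsg.Agent.Lib.Helper5.Ree Cfsg.Agent.Lib.Helper5.TwX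
  Cfsg.Agent.Lib.Helper5.MatPow Cfsg.Agent.Lib.Helper5.F4T Cfsg.Agent.Lib.Helper5.TwAut

/-- for a non-longest element `v` of `W¹` some `J` has all of `Φ_J` mapped to positive roots -/
theorem canon_pos_check : ∀ p ∈ Cfsg.Agent.Lib.Helper5.F4T.canon, p.1.length < 8 → ∃ J ∈ orbsF4, ∀ r < 48, 24 ≤ r →
    wAct chevF4 J r < 24 → 24 ≤ wAct chevF4 p.1.flatten r := by decide +kernel

theorem canon_last : ∀ p ∈ Cfsg.Agent.Lib.Helper5.F4T.canon, ¬ p.1.length < 8 → p.1 = w0Js := by decide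

variable {K : Type*} [Field K] [Fintype K] [CharP K 2] (m : ℕ)
  (hq : ∀ x : K, x ^ 2 ^ (2 * m + 1) = x)

/-- the `(B, N)`-pair of `G1` -/
noncomputable def bnF (hq : ∀ x : K, x ^ 2 ^ (2 * m + 1) = x) : Cfsg.BNPair ↥(fixG (K := K) m) :=
  bnPairX chevF4 hF4 gF4 orbsF4 (fixG m) (hypX_F4 m hq)

include hq in
/-- the index of `U ∩ G1` is odd -/
theorem index_odd (hK : Fintype.card K = 2 ^ (2 * m + 1)) :
    ¬ 2 ∣ (Nat.card ↥(fixG (K := K) m) / Nat.card ↥(chevF4.posUnipotent K ⊓ fixG m)) := by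
  rw [card_fixG m hq, card_pos_fix m hq, mul_assoc, Nat.mul_div_cancel_left _ (by positivity)]
  have hqe : Even (Fintype.card K) := by
    rw [hK, pow_succ]
    exact even_two.mul_left _
  have h1 : 1 ≤ Fintype.card K := Fintype.card_pos
  have hodd1 : Odd (Fintype.card K - 1) := Nat.Even.sub_odd h1 hqe odd_one
  have hodd2 : Odd (([0, 1, 2, 3, 3, 4, 5, 6, 6, 7, 8, 9, 9, 10, 11, 12].map
      fun d => Fintype.card K ^ d).sum) := by
    simp only [List.map_cons, List.map_nil, List.sum_cons, List.sum_nil, pow_zero]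
    obtain ⟨k, hk⟩ := hqe
    rw [hk]
    refine ⟨(k + k) ^ 0 * 0 + ((k) * ((k+k)^0 + ((k + k) ^ 1 + ((k + k) ^ 2 + ((k + k) ^ 2 + ((k + k) ^ 3 + ((k + k) ^ 4
      + ((k + k) ^ 5 + ((k + k) ^ 5 + ((k + k) ^ 6 + ((k + k) ^ 7 + ((k + k) ^ 8 + ((k + k) ^ 8
      + ((k + k) ^ 9 + ((k + k) ^ 10 + (k + k) ^ 11))))))))))))))), ?_⟩
    ring
  intro h
  have := (hodd1.pow (n := 2)).mul hodd2
  rw [← Nat.not_even_iff_odd] at this
  exact this (even_iff_two_dvd.2 h)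

include hq in
/-- A1 -/
theorem exists_conj_mapsT_pos (hK : Fintype.card K = 2 ^ (2 * m + 1))
    (θ : ↥(fixG (K := K) m) ≃* ↥(fixG (K := K) m)) :
    ∃ x : ↥(fixG (K := K) m), MapsT (fixG (K := K) m) (θ.trans (MulAut.conj x))
      (chevF4.posUnipotent K) (chevF4.posUnipotent K) := by
  have : Finite ↥(fixG (K := K) m) := inferInstance
  refine Cfsg.Agent.Lib.Helper1.TwAut.exists_conj_mapsT_of_sylow (fixG m) (chevF4.posUnipotent K) 2
    Nat.prime_two ⟨(2 * m + 1) * 12, ?_⟩ (index_odd m hq hK) θ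
  rw [card_pos_fix m hq, hK, ← pow_mul]

/-- `U_{w_J}^-` is conjugated into `U` by `n_v` when `v` maps `Φ_J` to positive roots -/
theorem conj_unegSub_le_pos (v J : List ℕ) (hv : Wd chevF4 v)
    (h : ∀ r < 48, 24 ≤ r → wAct chevF4 J r < 24 → 24 ≤ wAct chevF4 v r)
    (hJ : Wd chevF4 J) (u : GL chevF4.Idx K) (hu : u ∈ unegSub chevF4 K J) :
    wGL chevF4 hF4 v * u * (wGL chevF4 hF4 v)⁻¹ ∈ chevF4.posUnipotent K := by
  have h1 := Cfsg.Agent.Lib.Helper1.TwAut.map_conj_rootSetSub_le (K := K) chevF4 hF4 v hv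
    {r | chevF4.IsPosRoot r ∧ ¬ chevF4.IsPosRoot (wAct chevF4 J r)} {r | chevF4.IsPosRoot r} ?_
  · have h2 : wGL chevF4 hF4 v * u * (wGL chevF4 hF4 v)⁻¹ ∈
        (rootSetSub chevF4 K {r | chevF4.IsPosRoot r ∧ ¬ chevF4.IsPosRoot (wAct chevF4 J r)}).map
          (MulAut.conj (wGL chevF4 hF4 v : GL chevF4.Idx K)).toMonoidHom := ⟨u, hu, rfl⟩
    exact rootSetSub_le_pos chevF4 _ (fun r hr => hr) (h1 h2)
  · rintro r ⟨hr1, hr2⟩
    rw [isPos_iff] at hr1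
    have hJr : wAct chevF4 J r < 48 := wAct_lt chevF4 hF4 J hJ r hr1.2
    have hvr : wAct chevF4 v r < 48 := wAct_lt chevF4 hF4 v hv r hr1.2
    rw [isPos_iff] at hr2
    refine ⟨hr1.2, ?_⟩
    show chevF4.IsPosRoot (wAct chevF4 v r)
    rw [isPos_iff]
    exact ⟨h r hr1.2 hr1.1 (by omega), hvr⟩

include hq in
/-- A3 : a conjugate of `U ∩ G1` meeting `U` trivially comes from the big cell -/
theorem disjoint_conj (g : GL chevF4.Idx K) (hg : g ∈ fixG (K := K) m)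
    (hdisj : ∀ u ∈ chevF4.posUnipotent K ⊓ fixG m, g * u * g⁻¹ ∈ chevF4.posUnipotent K → u = 1) :
    ∃ u ∈ chevF4.posUnipotent K ⊓ fixG m, ∃ b ∈ chevF4.borelSubgroup K ⊓ fixG m,
      g = u * wGL chevF4 hF4 w0Js.flatten * b := by
  have hyp := hypX_F4 (K := K) m hq
  obtain ⟨Js', hJs', b, hb, u₂, hu₂, e⟩ := cellX chevF4 hF4 gF4 orbsF4 (fixG m) hyp g hg
  set v := Js'.flatten with hvdef
  have hst := stable_flattenX chevF4 hF4 gF4 orbsF4 orbsX_F4 Js' hJs'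
  have hv : Wd chevF4 v := hst.1
  have hnvG : wGL chevF4 hF4 v ∈ fixG (K := K) m :=
    wGL_flatten_mem chevF4 hF4 orbsF4 (fixG m) hyp.hn Js' hJs'
  have hnwG : wGL chevF4 hF4 w0Js.flatten ∈ fixG (K := K) m :=
    wGL_flatten_mem chevF4 hF4 orbsF4 (fixG m) hyp.hn w0Js w0Js_mem
  obtain ⟨p, hp, hperm⟩ := canon_repr Js' hJs'
  have hpwd := canon_wd p hp
  have hact := (wPerm_eq_iff chevF4 hF4 v p.1.flatten hv hpwd).1 hperm
  -- `p` is the longest element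
  have hlast : p.1 = w0Js := by
    apply canon_last p hp
    intro hlt
    obtain ⟨J, hJ, hpos⟩ := canon_pos_check p hp hlt
    obtain ⟨x, hx, hx1⟩ := hyp.hne J hJ
    have hJwd : Wd chevF4 J := orbsX_F4.wd J hJ
    have hxU : x ∈ chevF4.posUnipotent K := unegSub_le_pos J hJwd hx.1
    have h3 : wGL chevF4 hF4 v * x * (wGL chevF4 hF4 v)⁻¹ ∈ chevF4.posUnipotent K := by
      apply conj_unegSub_le_pos v J hv _ hJwd x hx.1
      intro r hr h24 hlt'
      rw [hact r hr]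
      exact hpos r hr h24 hlt'
    have hu : u₂⁻¹ * x * u₂ ∈ chevF4.posUnipotent K ⊓ fixG m :=
      mul_mem (mul_mem (inv_mem hu₂) ⟨hxU, hx.2⟩) hu₂
    have hconjg : g * (u₂⁻¹ * x * u₂) * g⁻¹
        = b * (wGL chevF4 hF4 v * x * (wGL chevF4 hF4 v)⁻¹) * b⁻¹ := by
      rw [e]
      group
    have h4 : g * (u₂⁻¹ * x * u₂) * g⁻¹ ∈ chevF4.posUnipotent K := by
      rw [hconjg]
      exact ((Subgroup.mem_normalizer_iff.1 (Cfsg.Agent.Lib.Helper1.ChevAut.borel_le_normalizer_pos' chevF4 hF4 hb.1)) _).1 h3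
    have h5 := hdisj _ hu h4
    apply hx1
    have : x = u₂ * (u₂⁻¹ * x * u₂) * u₂⁻¹ := by group
    rw [this, h5]
    group
  rw [hlast] at hact
  have hwd0 : Wd chevF4 w0Js.flatten :=
    (stable_flattenX chevF4 hF4 gF4 orbsF4 orbsX_F4 w0Js w0Js_mem).1
  have hh1 := hrel_of_act_eq (F := K) chevF4 hF4 v w0Js.flatten hv hwd0 hact
  have hbhB : b * (wGL chevF4 hF4 v * (wGL chevF4 hF4 w0Js.flatten)⁻¹) ∈ chevF4.borelSubgroup K :=
    mul_mem hb.1 (diagonal_le_borel chevF4 hh1)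
  have hbhG : b * (wGL chevF4 hF4 v * (wGL chevF4 hF4 w0Js.flatten)⁻¹) ∈ fixG (K := K) m :=
    mul_mem hb.2 (mul_mem hnvG (inv_mem hnwG))
  obtain ⟨u₁, hu₁, h₂, hh₂, e2⟩ := borel_fix m _ hbhB hbhG
  have hwN := wGL_mem (F := K) chevF4 hF4 w0Js.flatten hwd0
  have hh3 := (conj_monomial_diag_mem chevF4 hF4 _ hwN _ hh₂.1).2
  refine ⟨u₁, hu₁, ((wGL chevF4 hF4 w0Js.flatten)⁻¹ * h₂ * wGL chevF4 hF4 w0Js.flatten) * u₂,
    ⟨?_, ?_⟩, ?_⟩
  · exact mul_mem (diagonal_le_borel chevF4 hh3) (pos_le_borel chevF4 hu₂.1)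
  · exact (fixG (K := K) m).mul_mem ((fixG (K := K) m).mul_mem ((fixG (K := K) m).mul_mem
      ((fixG (K := K) m).inv_mem hnwG) hh₂.2) hnwG) hu₂.2
  · calc g = b * (wGL chevF4 hF4 v * (wGL chevF4 hF4 w0Js.flatten)⁻¹)
          * wGL chevF4 hF4 w0Js.flatten * u₂ := by rw [e]; group
      _ = u₁ * h₂ * wGL chevF4 hF4 w0Js.flatten * u₂ := by rw [← e2]
      _ = u₁ * wGL chevF4 hF4 w0Js.flatten
          * ((wGL chevF4 hF4 w0Js.flatten)⁻¹ * h₂ * wGL chevF4 hF4 w0Js.flatten * u₂) := by group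

include hq in
/-- A4 : some inner twist of `θ` lies in `A0` -/
theorem exists_conj_inA0 (hK : Fintype.card K = 2 ^ (2 * m + 1))
    (θ : ↥(fixG (K := K) m) ≃* ↥(fixG (K := K) m)) :
    ∃ x : ↥(fixG (K := K) m), InA0 m (θ.trans (MulAut.conj x)) := by
  have hyp := hypX_F4 (K := K) m hq
  obtain ⟨hwd, hV⟩ := conj_pos_eq_neg' (K := K) chevF4 hF4 w0Js.flatten checkW0_w0
  have hn₀ : wGL chevF4 hF4 w0Js.flatten ∈ fixG (K := K) m :=
    wGL_flatten_mem chevF4 hF4 orbsF4 (fixG m) hyp.hn w0Js w0Js_mem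
  obtain ⟨x₁, hx₁⟩ := exists_conj_mapsT_pos m hq hK θ
  have hA1 : ∃ x : ↥(fixG (K := K) m), Cfsg.Agent.Lib.Helper1.AutGen.MapsT (fixG (K := K) m)
      (θ.trans (MulAut.conj x))
      (chevF4.posUnipotent K ⊓ fixG m) (chevF4.posUnipotent K ⊓ fixG m) :=
    ⟨x₁, (Cfsg.Agent.Lib.Helper1.TwAut.mapsT_inf_iff (fixG (K := K) m) _ _ _).2 hx₁⟩
  have hV' : (chevF4.posUnipotent K ⊓ fixG m).map
      (MulAut.conj (wGL chevF4 hF4 w0Js.flatten)).toMonoidHom
      = chevF4.negUnipotent K ⊓ fixG m := by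
    rw [Cfsg.Agent.Lib.Helper1.TwAut.map_conj_inf (fixG (K := K) m) _ _ hn₀, hV]
  have hBU : chevF4.borelSubgroup K ⊓ fixG m ≤
      Subgroup.normalizer ((chevF4.posUnipotent K ⊓ fixG m : Subgroup (GL chevF4.Idx K)) :
        Set (GL chevF4.Idx K)) := by
    rintro b ⟨hb1, hb2⟩
    have hbn := Cfsg.Agent.Lib.Helper1.ChevAut.borel_le_normalizer_pos' chevF4 hF4 hb1
    rw [Subgroup.mem_normalizer_iff]
    intro u
    rw [Subgroup.mem_inf, Subgroup.mem_inf, ← (Subgroup.mem_normalizer_iff.1 hbn) u]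
    constructor
    · rintro ⟨h1, h2⟩
      exact ⟨h1, (fixG (K := K) m).mul_mem ((fixG (K := K) m).mul_mem hb2 h2)
        ((fixG (K := K) m).inv_mem hb2)⟩
    · rintro ⟨h1, h2⟩
      refine ⟨h1, ?_⟩
      have := (fixG (K := K) m).mul_mem ((fixG (K := K) m).mul_mem
        ((fixG (K := K) m).inv_mem hb2) h2) hb2
      have e : b⁻¹ * (b * u * b⁻¹) * b = u := by group
      rwa [e] at this
  have hUV : ∀ g, g ∈ chevF4.posUnipotent K ⊓ fixG m → g ∈ chevF4.negUnipotent K ⊓ fixG m →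
      g = 1 := by
    intro g hg1 hg2
    have : g ∈ chevF4.borelSubgroup K ⊓ chevF4.negUnipotent K :=
      ⟨pos_le_borel chevF4 hg1.1, hg2.1⟩
    rw [borel_inf_neg chevF4 hF4] at this
    exact this
  have hA3' : ∀ g ∈ fixG (K := K) m, (∀ u ∈ chevF4.posUnipotent K ⊓ fixG m,
      g * u * g⁻¹ ∈ chevF4.posUnipotent K ⊓ fixG m → u = 1) →
      ∃ u ∈ chevF4.posUnipotent K ⊓ fixG m, ∃ b ∈ chevF4.borelSubgroup K ⊓ fixG m,
        g = u * wGL chevF4 hF4 w0Js.flatten * b := by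
    intro g hg hdisj
    apply disjoint_conj m hq g hg
    intro u hu hgu
    exact hdisj u hu ⟨hgu, (fixG (K := K) m).mul_mem ((fixG (K := K) m).mul_mem hg hu.2)
      ((fixG (K := K) m).inv_mem hg)⟩
  obtain ⟨x, h1, h2⟩ := Cfsg.Agent.Lib.Helper1.AutGen.exists_conj_mapsT_pos_neg_of
    (fixG (K := K) m)
    (chevF4.posUnipotent K ⊓ fixG m) (chevF4.negUnipotent K ⊓ fixG m)
    (chevF4.borelSubgroup K ⊓ fixG m)
    (wGL chevF4 hF4 w0Js.flatten) inf_le_right hn₀ hV' hBU hUV θ hA1 hA3'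
  exact ⟨x, (Cfsg.Agent.Lib.Helper1.TwAut.mapsT_inf_iff (fixG (K := K) m) _ _ _).1 h1,
    (Cfsg.Agent.Lib.Helper1.TwAut.mapsT_inf_iff (fixG (K := K) m) _ _ _).1 h2⟩

include hq in
/-- a node element does not normalise `U ∩ G1` -/
theorem node_not_normalize (J : List ℕ) (hJ : J ∈ orbsF4) :
    ∃ u ∈ chevF4.posUnipotent K ⊓ fixG m,
      wGL chevF4 hF4 J * u * (wGL chevF4 hF4 J)⁻¹ ∉ chevF4.posUnipotent K := by
  have hyp := hypX_F4 (K := K) m hq
  obtain ⟨x, hx, hx1⟩ := hyp.hne J hJ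
  have hJwd : Wd chevF4 J := orbsX_F4.wd J hJ
  refine ⟨x, ⟨unegSub_le_pos J hJwd hx.1, hx.2⟩, ?_⟩
  intro hU
  have hV : wGL chevF4 hF4 J * x * (wGL chevF4 hF4 J)⁻¹ ∈ chevF4.negUnipotent K :=
    conj_unegOf_le_neg chevF4 _ x (unegSub_le_unegOf chevF4 hF4 J hJwd hx.1)
  have h3 : wGL chevF4 hF4 J * x * (wGL chevF4 hF4 J)⁻¹ ∈
      chevF4.borelSubgroup K ⊓ chevF4.negUnipotent K := ⟨pos_le_borel chevF4 hU, hV⟩
  rw [borel_inf_neg chevF4 hF4, Subgroup.mem_bot] at h3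
  apply hx1
  have : x = (wGL chevF4 hF4 J)⁻¹ * (wGL chevF4 hF4 J * x * (wGL chevF4 hF4 J)⁻¹)
      * wGL chevF4 hF4 J := by group
  rw [this, h3]
  group

include hq in
/-- A2a : `B ∩ G1 = N_{G1}(U ∩ G1)` -/
theorem mem_borel_iff (g : GL chevF4.Idx K) (hg : g ∈ fixG (K := K) m) :
    g ∈ chevF4.borelSubgroup K ↔
      ∀ u ∈ chevF4.posUnipotent K ⊓ fixG m, g * u * g⁻¹ ∈ chevF4.posUnipotent K := by
  constructor
  · intro hgB u hu
    have hn := Cfsg.Agent.Lib.Helper4.TwAut.h4_borel_le_normalizer_pos (K := K) chevF4 hF4 hgB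
    rw [Subgroup.mem_normalizer_iff] at hn
    exact (hn u).1 (Subgroup.mem_inf.1 hu).1
  · intro hcond
    have : Finite ↥(fixG (K := K) m) := inferInstance
    set U1 : Subgroup ↥(fixG (K := K) m) :=
      (chevF4.posUnipotent K ⊓ fixG m).subgroupOf (fixG m) with hU1
    set M : Subgroup ↥(fixG (K := K) m) := Subgroup.normalizer (U1 : Set ↥(fixG (K := K) m))
      with hM
    have hmemU1 : ∀ x : ↥(fixG (K := K) m),
        x ∈ U1 ↔ (x : GL chevF4.Idx K) ∈ chevF4.posUnipotent K := by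
      intro x
      rw [hU1, Subgroup.mem_subgroupOf, Subgroup.mem_inf]
      exact ⟨fun h => h.1, fun h => ⟨h, x.2⟩⟩
    have hcrit : ∀ x : ↥(fixG (K := K) m), (∀ u ∈ chevF4.posUnipotent K ⊓ fixG m,
        (x : GL chevF4.Idx K) * u * (x : GL chevF4.Idx K)⁻¹ ∈ chevF4.posUnipotent K) → x ∈ M := by
      intro x hx
      apply Cfsg.Agent.Lib.Helper4.TwAut.h4_mem_normalizer_of_conj_le
      intro y hy
      rw [hmemU1] at hy ⊢
      have := hx (y : GL chevF4.Idx K) (Subgroup.mem_inf.2 ⟨hy, y.2⟩)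
      simpa using this
    have hBM : (bnF m hq).B ≤ M := by
      intro x hx
      have hB : (bnF m hq).B = (chevF4.borelSubgroup K ⊓ fixG m).subgroupOf (fixG m) := rfl
      rw [hB, Subgroup.mem_subgroupOf] at hx
      apply hcrit
      intro u hu
      have hn := Cfsg.Agent.Lib.Helper4.TwAut.h4_borel_le_normalizer_pos (K := K) chevF4 hF4
        (Subgroup.mem_inf.1 hx).1
      rw [Subgroup.mem_normalizer_iff] at hn
      exact (hn u).1 (Subgroup.mem_inf.1 hu).1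
    have h1 := Cfsg.Agent.Lib.Helper4.BNPair.eq_parabolic_of_le hBM
    have hJ : {t | t ∈ (bnF m hq).S ∧ t ∈ M} = (∅ : Set ↥(fixG (K := K) m)) := by
      ext t
      simp only [Set.mem_ofPred_eq, Set.mem_empty_iff_false, iff_false]
      rintro ⟨⟨J, hJ, e⟩, htM⟩
      obtain ⟨u, hu, hnot⟩ := node_not_normalize m hq J hJ
      apply hnot
      rw [hM, Subgroup.mem_normalizer_iff] at htM
      have h2 := (htM ⟨u, (Subgroup.mem_inf.1 hu).2⟩).1
        ((hmemU1 _).2 (Subgroup.mem_inf.1 hu).1)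
      rw [hmemU1] at h2
      simpa [e] using h2
    rw [hJ, Cfsg.Agent.Lib.Helper4.AutB1.h4_parabolic_empty] at h1
    have hgM : (⟨g, hg⟩ : ↥(fixG (K := K) m)) ∈ M := hcrit ⟨g, hg⟩ hcond
    rw [h1] at hgM
    have hB : (bnF m hq).B = (chevF4.borelSubgroup K ⊓ fixG m).subgroupOf (fixG m) := rfl
    rw [hB, Subgroup.mem_subgroupOf] at hgM
    exact (Subgroup.mem_inf.1 hgM).1

include hq in
/-- A2b : `H ∩ G1 = N_{G1}(U ∩ G1) ∩ N_{G1}(V ∩ G1)` -/
theorem mem_diag_iff (g : GL chevF4.Idx K) (hg : g ∈ fixG (K := K) m) :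
    g ∈ chevF4.diagonalSubgroup K ↔
      (∀ u ∈ chevF4.posUnipotent K ⊓ fixG m, g * u * g⁻¹ ∈ chevF4.posUnipotent K) ∧
      (∀ v ∈ chevF4.negUnipotent K ⊓ fixG m, g * v * g⁻¹ ∈ chevF4.negUnipotent K) := by
  have hyp := hypX_F4 (K := K) m hq
  constructor
  · intro hh
    refine ⟨fun u hu => ?_, fun v hv => ?_⟩
    · exact (Subgroup.mem_normalizer_iff.1 (diagonal_le_normalizer_pos chevF4 hF4 hh) u).1 hu.1
    · exact (Subgroup.mem_normalizer_iff.1 (diagonal_le_normalizer_neg chevF4 hF4 hh) v).1 hv.1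
  · rintro ⟨h1, h2⟩
    obtain ⟨hwd, hV₀⟩ := conj_pos_eq_neg' (K := K) chevF4 hF4 w0Js.flatten checkW0_w0
    set n₀ : GL chevF4.Idx K := wGL chevF4 hF4 w0Js.flatten with hn₀def
    have hn₀ : n₀ ∈ fixG (K := K) m :=
      wGL_flatten_mem chevF4 hF4 orbsF4 (fixG m) hyp.hn w0Js w0Js_mem
    have hn₀N : n₀ ∈ chevF4.monomialSubgroup K := wGL_mem chevF4 hF4 w0Js.flatten hwd
    have hV₁ : (chevF4.negUnipotent K).map (MulAut.conj n₀⁻¹).toMonoidHom
        = chevF4.posUnipotent K := by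
      rw [← hV₀, Cfsg.Agent.Lib.Helper1.AutGen.map_conj_conj, inv_mul_cancel,
        Cfsg.Agent.Lib.Helper1.AutGen.map_conj_one]
    have hgB : g ∈ chevF4.borelSubgroup K := (mem_borel_iff m hq g hg).2 h1
    have hg'G : n₀⁻¹ * g * n₀ ∈ fixG (K := K) m :=
      (fixG (K := K) m).mul_mem ((fixG (K := K) m).mul_mem ((fixG (K := K) m).inv_mem hn₀) hg) hn₀
    have hg'B : n₀⁻¹ * g * n₀ ∈ chevF4.borelSubgroup K := by
      apply (mem_borel_iff m hq _ hg'G).2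
      intro u hu
      have hv : n₀ * u * n₀⁻¹ ∈ chevF4.negUnipotent K ⊓ fixG m := by
        refine ⟨?_, (fixG (K := K) m).mul_mem ((fixG (K := K) m).mul_mem hn₀ hu.2)
          ((fixG (K := K) m).inv_mem hn₀)⟩
        rw [← hV₀]
        exact ⟨u, hu.1, by simp [MulAut.conj_apply]⟩
      have h3 := h2 _ hv
      have h4 : n₀⁻¹ * (g * (n₀ * u * n₀⁻¹) * g⁻¹) * n₀ ∈ chevF4.posUnipotent K := by
        rw [← hV₁]
        exact ⟨_, h3, by simp [MulAut.conj_apply]⟩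
      have e : n₀⁻¹ * g * n₀ * u * (n₀⁻¹ * g * n₀)⁻¹
          = n₀⁻¹ * (g * (n₀ * u * n₀⁻¹) * g⁻¹) * n₀ := by
        group
      rw [e]
      exact h4
    have hHn : (chevF4.diagonalSubgroup K).map (MulAut.conj n₀).toMonoidHom
        = chevF4.diagonalSubgroup K := by
      apply Cfsg.Agent.Lib.Helper1.AutGen.map_conj_of_mem_normalizer
      rw [Subgroup.mem_normalizer_iff]
      intro h
      constructor
      · intro hh
        exact (conj_monomial_diag_mem chevF4 hF4 _ hn₀N _ hh).1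
      · intro hh
        have := (conj_monomial_diag_mem chevF4 hF4 _ hn₀N _ hh).2
        have e : n₀⁻¹ * (n₀ * h * n₀⁻¹) * n₀ = h := by group
        rwa [e] at this
    have hgVH : g ∈ chevF4.negUnipotent K ⊔ chevF4.diagonalSubgroup K := by
      have h5 : g ∈ (chevF4.borelSubgroup K).map (MulAut.conj n₀).toMonoidHom := by
        refine ⟨n₀⁻¹ * g * n₀, hg'B, ?_⟩
        simp only [MulEquiv.coe_toMonoidHom, MulAut.conj_apply]
        group
      unfold ChevalleyDatum.borelSubgroup at h5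
      rw [Subgroup.map_sup, hV₀, hHn] at h5
      exact h5
    have : g ∈ chevF4.borelSubgroup K ⊓ (chevF4.negUnipotent K ⊔ chevF4.diagonalSubgroup K) :=
      ⟨hgB, hgVH⟩
    rw [borel_inf_negBorel chevF4 hF4] at this
    exact this

include hq in
theorem inA0_borel (θ : ↥(fixG (K := K) m) ≃* ↥(fixG (K := K) m)) (h : InA0 m θ) :
    MapsT (fixG (K := K) m) θ (chevF4.borelSubgroup K) (chevF4.borelSubgroup K) := fun g => by
  rw [mem_borel_iff m hq _ (θ g).2, mem_borel_iff m hq _ g.2,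
    Cfsg.Agent.Lib.Helper1.TwAut.conj_cond_iff h.1 g]

include hq in
theorem inA0_diag (θ : ↥(fixG (K := K) m) ≃* ↥(fixG (K := K) m)) (h : InA0 m θ) :
    MapsT (fixG (K := K) m) θ (chevF4.diagonalSubgroup K) (chevF4.diagonalSubgroup K) := fun g => by
  rw [mem_diag_iff m hq _ (θ g).2, mem_diag_iff m hq _ g.2,
    Cfsg.Agent.Lib.Helper1.TwAut.conj_cond_iff h.1 g,
    Cfsg.Agent.Lib.Helper1.TwAut.conj_cond_iff h.2 g]

end Cfsg.Agent.Lib.Helper1.F4Out
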