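import Mathlib
import Cfsg.Agent.Lib.Helper1.F4Out.PartA
import Cfsg.Agent.Lib.Helper2.F4OutS1
import Cfsg.Agent.Lib.Helper2.F4OutS2
import Cfsg.Agent.Lib.Helper2.F4OutS4
import Cfsg.Agent.Lib.Helper5.F4OutS3
import Cfsg.Agent.Lib.Helper5.F4OutCells
import Cfsg.Agent.Lib.Helper4.F4OutGen
import Cfsg.Agent.Lib.Helper4.F4OutBorelN
import Cfsg.Agent.Lib.Helper9.F4OutTorus
import Cfsg.Agent.Lib.Helper9.F4OutNum
import Cfsg.Agent.Lib.Helper9.F4OutField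
import Cfsg.Agent.Lib.Helper6.F4OutNegCell
import Cfsg.Agent.Lib.Helper1.AutB4
import Cfsg.Agent.Lib.Helper5.ReeOut.RigidAlg

set_option autoImplicit false
set_option linter.unusedVariables false
set_option linter.unusedSectionVars false

/-!
# F4OUT farm: an automorphism in `A0` preserves the four root subgroups; its shape on `X₁`
-/

namespace Cfsg.Agent.Lib.Helper1.F4Out

open Cfsg Cfsg.Lie Cfsg.Agent.Lib.Helper5.ChevSym Cfsg.Agent.Lib.Helper5.ChevSymP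
  Cfsg.Agent.Lib.Helper5.ChevStruct Cfsg.Agent.Lib.Helper5.Ree Cfsg.Agent.Lib.Helper5.TwX
  Cfsg.Agent.Lib.Helper5.MatPow Cfsg.Agent.Lib.Helper5.F4T Cfsg.Agent.Lib.Helper5.TwAut
open Cfsg.Agent.Lib.Helper2.F4Out Cfsg.Agent.Lib.Helper5.F4Out Cfsg.Agent.Lib.Helper4.F4Out
  Cfsg.Agent.Lib.Helper9.F4Out Cfsg.Agent.Lib.Helper6.F4Out

variable {K : Type*} [Field K] [Fintype K] [CharP K 2] (m : ℕ)
  (hq : ∀ x : K, x ^ 2 ^ (2 * m + 1) = x)

/-! ### small consequences of the units -/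

theorem x1_zero : x1 (K := K) m 0 = 1 := by
  have h := x1_add (K := K) m 0 0
  rw [add_zero] at h
  exact (mul_eq_left.1 h.symm)

theorem y1_eq (t : K) : y1 m t = n0 * x1 m t * (n0 : GL chevF4.Idx K)⁻¹ := (n0_conj_x1 m t).symm

theorem y2_eq (t u : K) : y2 m t u = n0 * x2 m t u * (n0 : GL chevF4.Idx K)⁻¹ :=
  (n0_conj_x2 m t u).symm

theorem x1_eq (t : K) : x1 m t = (n0 : GL chevF4.Idx K)⁻¹ * y1 m t * n0 := by
  rw [y1_eq]; group

theorem x2_eq (t u : K) : x2 m t u = (n0 : GL chevF4.Idx K)⁻¹ * y2 m t u * n0 := by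
  rw [y2_eq]; group

theorem y1_zero : y1 (K := K) m 0 = 1 := by
  rw [y1_eq, x1_zero]; group

include hq in
theorem x2_zero : x2 (K := K) m 0 0 = 1 := by
  have h := x2_mul (K := K) m hq 0 0 0 0
  simp only [add_zero, zero_mul] at h
  exact (mul_eq_left.1 h)

include hq in
theorem y2_zero : y2 (K := K) m 0 0 = 1 := by
  rw [y2_eq, x2_zero m hq]; group

theorem y1_injective : Function.Injective (y1 (K := K) m) := by
  intro s t h
  apply x1_injective m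
  rw [x1_eq, x1_eq, h]

theorem y2_injective (t u s v : K) (h : y2 m t u = y2 m s v) : t = s ∧ u = v := by
  apply x2_injective m
  rw [x2_eq, x2_eq, h]

/-! ### conjugation by `n₀` swaps `U` and `V` -/

theorem conjn0_neg_iff (g : GL chevF4.Idx K) :
    n0 * g * (n0 : GL chevF4.Idx K)⁻¹ ∈ chevF4.negUnipotent K ↔ g ∈ chevF4.posUnipotent K := by
  obtain ⟨-, hV⟩ := conj_pos_eq_neg' (K := K) chevF4 hF4 w0Js.flatten checkW0_w0
  unfold n0
  rw [← hV, Cfsg.Agent.Lib.Helper1.AutGen.mem_map_conj_iff]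
  have e : (wGL chevF4 hF4 w0Js.flatten : GL chevF4.Idx K)⁻¹
      * (wGL chevF4 hF4 w0Js.flatten * g * (wGL chevF4 hF4 w0Js.flatten)⁻¹)
      * wGL chevF4 hF4 w0Js.flatten = g := by group
  rw [e]

theorem conjn0_pos_iff (g : GL chevF4.Idx K) :
    n0 * g * (n0 : GL chevF4.Idx K)⁻¹ ∈ chevF4.posUnipotent K ↔ g ∈ chevF4.negUnipotent K := by
  rw [← conjn0_neg_iff]
  have hsq : (n0 * n0 : GL chevF4.Idx K) ∈ chevF4.diagonalSubgroup K :=
    Cfsg.Agent.Lib.Helper1.ChevAut.w0_sq_mem_diagonal chevF4 hF4 w0Js.flatten checkW0_w0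
  have hn := diagonal_le_normalizer_neg chevF4 hF4 hsq
  rw [Subgroup.mem_normalizer_iff] at hn
  have e : (n0 : GL chevF4.Idx K) * (n0 * g * n0⁻¹) * n0⁻¹ = (n0 * n0) * g * (n0 * n0)⁻¹ := by
    group
  rw [e]
  exact (hn g).symm

/-! ### the four root subgroups are preserved -/

include hq in
theorem inA0_y1 (θ : ↥(fixG (K := K) m) ≃* ↥(fixG (K := K) m)) (h : InA0 m θ) (t : K) :
    ∃ t', ((θ ⟨y1 m t, y1_mem_fix m hq t⟩ : ↥(fixG (K := K) m)) : GL chevF4.Idx K) = y1 m t' := by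
  by_cases ht : t = 0
  · refine ⟨0, ?_⟩
    have e : (⟨y1 m t, y1_mem_fix m hq t⟩ : ↥(fixG (K := K) m)) = 1 := by
      apply Subtype.ext
      rw [ht]
      exact y1_zero m
    rw [e, map_one, y1_zero]
    rfl
  · set g : ↥(fixG (K := K) m) := ⟨y1 m t, y1_mem_fix m hq t⟩ with hg
    have hV : ((θ g : ↥(fixG (K := K) m)) : GL chevF4.Idx K) ∈ chevF4.negUnipotent K :=
      (h.2 g).2 (y1_mem_neg m t)
    have hc := (borel_n1 m hq θ (inA0_borel m hq θ h) h.2 g).2 (y1_mem_cell m hq t ht)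
    exact neg_cell_n1 m hq _ (θ g).2 hV (Or.inr hc)

include hq in
theorem inA0_y2 (θ : ↥(fixG (K := K) m) ≃* ↥(fixG (K := K) m)) (h : InA0 m θ) (t u : K) :
    ∃ t' u', ((θ ⟨y2 m t u, y2_mem_fix m hq t u⟩ : ↥(fixG (K := K) m)) : GL chevF4.Idx K)
      = y2 m t' u' := by
  by_cases ht : t = 0 ∧ u = 0
  · refine ⟨0, 0, ?_⟩
    have e : (⟨y2 m t u, y2_mem_fix m hq t u⟩ : ↥(fixG (K := K) m)) = 1 := by
      apply Subtype.ext
      rw [ht.1, ht.2]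
      exact y2_zero m hq
    rw [e, map_one, y2_zero m hq]
    rfl
  · have htu : t ≠ 0 ∨ u ≠ 0 := by
      by_contra hc
      push Not at hc
      exact ht hc
    set g : ↥(fixG (K := K) m) := ⟨y2 m t u, y2_mem_fix m hq t u⟩ with hg
    have hV : ((θ g : ↥(fixG (K := K) m)) : GL chevF4.Idx K) ∈ chevF4.negUnipotent K :=
      (h.2 g).2 (y2_mem_neg m t u)
    have hc := (borel_n2 m hq θ (inA0_borel m hq θ h) h.2 g).2 (y2_mem_cell m hq t u htu)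
    exact neg_cell_n2 m hq _ (θ g).2 hV (Or.inr hc)

/-- `n₀` as an element of `G1` -/
noncomputable def gn0 (hq : ∀ x : K, x ^ 2 ^ (2 * m + 1) = x) : ↥(fixG (K := K) m) :=
  ⟨n0, n0_mem_fix m hq⟩

include hq in
/-- the conjugate of an element of `A0` by `n₀` lies in `A0` -/
theorem inA0_conj_n0 (θ : ↥(fixG (K := K) m) ≃* ↥(fixG (K := K) m)) (h : InA0 m θ) :
    InA0 m ((MulAut.conj (gn0 m hq) * (θ : MulAut ↥(fixG (K := K) m))
      * (MulAut.conj (gn0 m hq))⁻¹ : MulAut ↥(fixG (K := K) m))) := by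
  have key : ∀ g : ↥(fixG (K := K) m),
      (((MulAut.conj (gn0 m hq) * (θ : MulAut ↥(fixG (K := K) m))
        * (MulAut.conj (gn0 m hq))⁻¹ : MulAut ↥(fixG (K := K) m)) g : ↥(fixG (K := K) m)) :
          GL chevF4.Idx K)
        = n0 * ((θ ((gn0 m hq)⁻¹ * g * gn0 m hq) : ↥(fixG (K := K) m)) : GL chevF4.Idx K)
          * (n0 : GL chevF4.Idx K)⁻¹ := by
    intro g
    simp only [MulAut.mul_apply, MulAut.conj_apply, MulAut.conj_inv_apply]
    rfl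
  have key2 : ∀ g : ↥(fixG (K := K) m),
      (((gn0 m hq)⁻¹ * g * gn0 m hq : ↥(fixG (K := K) m)) : GL chevF4.Idx K)
        = (n0 : GL chevF4.Idx K)⁻¹ * (g : GL chevF4.Idx K) * n0 := fun g => rfl
  constructor
  · intro g
    rw [key, conjn0_pos_iff, h.2, key2, ← conjn0_pos_iff]
    have e : (n0 : GL chevF4.Idx K) * ((n0 : GL chevF4.Idx K)⁻¹ * (g : GL chevF4.Idx K) * n0)
        * (n0 : GL chevF4.Idx K)⁻¹ = (g : GL chevF4.Idx K) := by group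
    rw [e]
  · intro g
    rw [key, conjn0_neg_iff, h.1, key2, ← conjn0_neg_iff]
    have e : (n0 : GL chevF4.Idx K) * ((n0 : GL chevF4.Idx K)⁻¹ * (g : GL chevF4.Idx K) * n0)
        * (n0 : GL chevF4.Idx K)⁻¹ = (g : GL chevF4.Idx K) := by group
    rw [e]

include hq in
theorem inA0_x1 (θ : ↥(fixG (K := K) m) ≃* ↥(fixG (K := K) m)) (h : InA0 m θ) (t : K) :
    ∃ t', ((θ ⟨x1 m t, x1_mem_fix m hq t⟩ : ↥(fixG (K := K) m)) : GL chevF4.Idx K) = x1 m t' := by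
  obtain ⟨t', ht'⟩ := inA0_y1 m hq _ (inA0_conj_n0 m hq θ h) t
  refine ⟨t', ?_⟩
  simp only [MulAut.mul_apply, MulAut.conj_apply, MulAut.conj_inv_apply] at ht'
  have e : (gn0 m hq)⁻¹ * (⟨y1 m t, y1_mem_fix m hq t⟩ : ↥(fixG (K := K) m)) * gn0 m hq
      = ⟨x1 m t, x1_mem_fix m hq t⟩ := by
    apply Subtype.ext
    show (n0 : GL chevF4.Idx K)⁻¹ * y1 m t * n0 = x1 m t
    rw [x1_eq]
  rw [e] at ht'
  have e2 : ((θ ⟨x1 m t, x1_mem_fix m hq t⟩ : ↥(fixG (K := K) m)) : GL chevF4.Idx K)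
      = (n0 : GL chevF4.Idx K)⁻¹ * y1 m t' * n0 := by
    rw [← ht']
    show _ = (n0 : GL chevF4.Idx K)⁻¹ * (n0 * ((θ ⟨x1 m t, x1_mem_fix m hq t⟩ :
      ↥(fixG (K := K) m)) : GL chevF4.Idx K) * (n0 : GL chevF4.Idx K)⁻¹) * n0
    group
  rw [e2, x1_eq]

include hq in
theorem inA0_x2 (θ : ↥(fixG (K := K) m) ≃* ↥(fixG (K := K) m)) (h : InA0 m θ) (t u : K) :
    ∃ t' u', ((θ ⟨x2 m t u, x2_mem_fix m hq t u⟩ : ↥(fixG (K := K) m)) : GL chevF4.Idx K)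
      = x2 m t' u' := by
  obtain ⟨t', u', ht'⟩ := inA0_y2 m hq _ (inA0_conj_n0 m hq θ h) t u
  refine ⟨t', u', ?_⟩
  simp only [MulAut.mul_apply, MulAut.conj_apply, MulAut.conj_inv_apply] at ht'
  have e : (gn0 m hq)⁻¹ * (⟨y2 m t u, y2_mem_fix m hq t u⟩ : ↥(fixG (K := K) m)) * gn0 m hq
      = ⟨x2 m t u, x2_mem_fix m hq t u⟩ := by
    apply Subtype.ext
    show (n0 : GL chevF4.Idx K)⁻¹ * y2 m t u * n0 = x2 m t u
    rw [x2_eq]
  rw [e] at ht'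
  have e2 : ((θ ⟨x2 m t u, x2_mem_fix m hq t u⟩ : ↥(fixG (K := K) m)) : GL chevF4.Idx K)
      = (n0 : GL chevF4.Idx K)⁻¹ * y2 m t' u' * n0 := by
    rw [← ht']
    show _ = (n0 : GL chevF4.Idx K)⁻¹ * (n0 * ((θ ⟨x2 m t u, x2_mem_fix m hq t u⟩ :
      ↥(fixG (K := K) m)) : GL chevF4.Idx K) * (n0 : GL chevF4.Idx K)⁻¹) * n0
    group
  rw [e2, x2_eq]

/-! ### the shape on `X₁` -/

include hq in
theorem inA0_shape_x1 (hK : Fintype.card K = 2 ^ (2 * m + 1))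
    (θ : ↥(fixG (K := K) m) ≃* ↥(fixG (K := K) m)) (h : InA0 m θ) :
    ∃ (a : K) (ψ : K ≃+* K), a ≠ 0 ∧ ∀ t,
      ((θ ⟨x1 m t, x1_mem_fix m hq t⟩ : ↥(fixG (K := K) m)) : GL chevF4.Idx K)
        = x1 m (a * ψ t) := by
  choose φ hφ using inA0_x1 m hq θ h
  have hadd : ∀ s t, φ (s + t) = φ s + φ t := by
    intro s t
    apply x1_injective m
    have e : (⟨x1 m (s + t), x1_mem_fix m hq (s + t)⟩ : ↥(fixG (K := K) m))
        = ⟨x1 m s, x1_mem_fix m hq s⟩ * ⟨x1 m t, x1_mem_fix m hq t⟩ := by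
      apply Subtype.ext
      exact x1_add m s t
    calc x1 m (φ (s + t))
        = ((θ ⟨x1 m (s + t), x1_mem_fix m hq (s + t)⟩ : ↥(fixG (K := K) m)) :
            GL chevF4.Idx K) := (hφ _).symm
      _ = ((θ ⟨x1 m s, x1_mem_fix m hq s⟩ : ↥(fixG (K := K) m)) : GL chevF4.Idx K)
          * ((θ ⟨x1 m t, x1_mem_fix m hq t⟩ : ↥(fixG (K := K) m)) : GL chevF4.Idx K) := by
        rw [e, map_mul]; rfl
      _ = x1 m (φ s + φ t) := by rw [hφ, hφ, ← x1_add]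
  have h1 : φ 1 ≠ 0 := by
    intro h0
    have e1 := hφ 1
    rw [h0, x1_zero] at e1
    have e2 : θ ⟨x1 m 1, x1_mem_fix m hq 1⟩ = 1 := Subtype.ext e1
    have e3 : (⟨x1 m 1, x1_mem_fix m hq 1⟩ : ↥(fixG (K := K) m)) = 1 := by
      rw [← map_one θ] at e2
      exact θ.injective e2
    have e4 : x1 m (1 : K) = x1 m 0 := by
      rw [x1_zero]
      exact congrArg Subtype.val e3
    exact one_ne_zero (x1_injective m e4)
  have hmul : ∀ s : K, s ≠ 0 → ∃ μ : K, ∀ t, φ (s * t) = μ * φ t := by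
    intro s hs
    obtain ⟨p, hp1, -⟩ := chi_surj m hK (Units.mk0 s hs) 1
    set hh : ↥(fixG (K := K) m) := ⟨hz m p, hz_mem_fixG m hq p⟩ with hhdef
    have hθh : ((θ hh : ↥(fixG (K := K) m)) : GL chevF4.Idx K) ∈ chevF4.diagonalSubgroup K :=
      (inA0_diag m hq θ h hh).2 (hz_mem_diag m p)
    obtain ⟨p', hp'⟩ := (diag_fix_iff m hq _).1 ⟨hθh, (θ hh).2⟩
    refine ⟨(chi1 p' : K), fun t => ?_⟩
    apply x1_injective m
    have e : (⟨x1 m (s * t), x1_mem_fix m hq (s * t)⟩ : ↥(fixG (K := K) m))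
        = hh * ⟨x1 m t, x1_mem_fix m hq t⟩ * hh⁻¹ := by
      apply Subtype.ext
      show x1 m (s * t) = hz m p * x1 m t * (hz m p)⁻¹
      rw [hz_conj_x1, hp1]
      rfl
    calc x1 m (φ (s * t))
        = ((θ ⟨x1 m (s * t), x1_mem_fix m hq (s * t)⟩ : ↥(fixG (K := K) m)) :
            GL chevF4.Idx K) := (hφ _).symm
      _ = ((θ hh : ↥(fixG (K := K) m)) : GL chevF4.Idx K)
          * ((θ ⟨x1 m t, x1_mem_fix m hq t⟩ : ↥(fixG (K := K) m)) : GL chevF4.Idx K)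
          * ((θ hh : ↥(fixG (K := K) m)) : GL chevF4.Idx K)⁻¹ := by
        rw [e, map_mul, map_mul, map_inv]; rfl
      _ = x1 m ((chi1 p' : K) * φ t) := by rw [hφ, hp', hz_conj_x1]
  obtain ⟨σ, hσ⟩ := Cfsg.Agent.Lib.Helper5.ReeOut.exists_ringEquiv_of_semilinear φ hadd h1 hmul
  exact ⟨φ 1, σ, h1, fun t => by rw [hφ, hσ t]⟩

end Cfsg.Agent.Lib.Helper1.F4Out
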