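import Mathlib
import Cfsg.Agent.Lib.Helper1.F4Out.Shape
import Cfsg.Agent.Lib.Helper6.F4OutTrick
import Cfsg.Agent.Lib.Helper7.TwOutE3

set_option autoImplicit false
set_option linter.unusedVariables false
set_option linter.unusedSectionVars false

/-!
# F4OUT farm: rigidity

An automorphism in `A0` fixing `X₁` pointwise and `x₂(1, 0)` modulo `Z(X₂)` is the identity.
-/

namespace Cfsg.Agent.Lib.Helper1.F4Out

open Cfsg Cfsg.Lie Cfsg.Agent.Lib.Helper5.ChevSym Cfsg.Agent.Lib.Helper5.ChevSymP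
  Cfsg.Agent.Lib.Helper5.ChevStruct Cfsg.Agent.Lib.Helper5.Ree Cfsg.Agent.Lib.Helper5.TwX
  Cfsg.Agent.Lib.Helper5.MatPow Cfsg.Agent.Lib.Helper5.F4T Cfsg.Agent.Lib.Helper5.TwAut
open Cfsg.Agent.Lib.Helper2.F4Out Cfsg.Agent.Lib.Helper5.F4Out Cfsg.Agent.Lib.Helper4.F4Out
  Cfsg.Agent.Lib.Helper9.F4Out Cfsg.Agent.Lib.Helper6.F4Out

variable {K : Type*} [Field K] [Fintype K] [CharP K 2] (m : ℕ)
  (hq : ∀ x : K, x ^ 2 ^ (2 * m + 1) = x)

/-- an automorphism fixing a set `S ⊆ G1` pointwise fixes the elements of `⟨S⟩` -/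
theorem fix_of_closure {Γ : Type*} [Group Γ] (G1 : Subgroup Γ) (S : Set Γ) (θ : ↥G1 ≃* ↥G1)
    (hS : ∀ s ∈ S, ∃ hs : s ∈ G1, θ ⟨s, hs⟩ = ⟨s, hs⟩) (g : Γ) (hg : g ∈ Subgroup.closure S) :
    ∃ hg' : g ∈ G1, θ ⟨g, hg'⟩ = ⟨g, hg'⟩ := by
  induction hg using Subgroup.closure_induction with
  | mem x hx => exact hS x hx
  | one => exact ⟨one_mem _, map_one θ⟩
  | mul x y _ _ ihx ihy =>
    obtain ⟨hx, ex⟩ := ihx
    obtain ⟨hy, ey⟩ := ihy
    refine ⟨mul_mem hx hy, ?_⟩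
    have : (⟨x * y, mul_mem hx hy⟩ : ↥G1) = ⟨x, hx⟩ * ⟨y, hy⟩ := rfl
    rw [this, map_mul, ex, ey]
  | inv x _ ihx =>
    obtain ⟨hx, ex⟩ := ihx
    refine ⟨inv_mem hx, ?_⟩
    have : (⟨x⁻¹, inv_mem hx⟩ : ↥G1) = (⟨x, hx⟩ : ↥G1)⁻¹ := rfl
    rw [this, map_inv, ex]

/-- the Bruhat-uniqueness trick, in `G1 ≤ GL`: an automorphism preserving `B`, fixing `X`
pointwise and preserving `Y = n X n⁻¹` fixes `Y` pointwise -/
theorem fix_conj (D : ChevalleyDatum) (hD : D ∈ Seven) (G1 : Subgroup (GL D.Idx K))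
    (θ : ↥G1 ≃* ↥G1)
    (hB : MapsT G1 θ (D.borelSubgroup K) (D.borelSubgroup K))
    (n : ↥G1) (X : Subgroup ↥G1) [Finite X]
    (hcell : ∀ g : ↥G1, (∃ b₁ ∈ D.borelSubgroup K, ∃ b₂ ∈ D.borelSubgroup K,
        (g : GL D.Idx K) = b₁ * n * b₂) →
      ∃ c : ↥G1, (c : GL D.Idx K) ∈ D.borelSubgroup K ∧ ∃ x ∈ X, g = c * n * x)
    (hθcell : ∀ g : ↥G1, (∃ b₁ ∈ D.borelSubgroup K, ∃ b₂ ∈ D.borelSubgroup K,
        (g : GL D.Idx K) = b₁ * n * b₂) →
      (∃ b₁ ∈ D.borelSubgroup K, ∃ b₂ ∈ D.borelSubgroup K,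
        ((θ g : ↥G1) : GL D.Idx K) = b₁ * n * b₂))
    (hYcell : ∀ x ∈ X, x ≠ 1 → ∃ b₁ ∈ D.borelSubgroup K, ∃ b₂ ∈ D.borelSubgroup K,
      ((n * x * n⁻¹ : ↥G1) : GL D.Idx K) = b₁ * n * b₂)
    (hYV : ∀ x ∈ X, ((n * x * n⁻¹ : ↥G1) : GL D.Idx K) ∈ D.negUnipotent K)
    (hθY : ∀ x ∈ X, ∃ x' ∈ X, θ (n * x * n⁻¹) = n * x' * n⁻¹)
    (hθX : ∀ x ∈ X, θ x = x) : ∀ x ∈ X, θ (n * x * n⁻¹) = n * x * n⁻¹ := by
  set B : Subgroup ↥G1 := (D.borelSubgroup K).comap G1.subtype with hBdef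
  have hmemB : ∀ g : ↥G1, g ∈ B ↔ (g : GL D.Idx K) ∈ D.borelSubgroup K := fun g => Iff.rfl
  set Y : Subgroup ↥G1 := X.map (MulAut.conj n).toMonoidHom with hYdef
  have hmemY : ∀ y : ↥G1, y ∈ Y ↔ ∃ x ∈ X, y = n * x * n⁻¹ := by
    intro y
    rw [hYdef, Subgroup.mem_map]
    constructor
    · rintro ⟨x, hx, rfl⟩
      exact ⟨x, hx, by simp [MulAut.conj_apply]⟩
    · rintro ⟨x, hx, rfl⟩
      exact ⟨x, hx, by simp [MulAut.conj_apply]⟩
  have htriv : ∀ x ∈ X, n * x * n⁻¹ ∈ B → x = 1 := by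
    intro x hx hb
    have h1 : ((n * x * n⁻¹ : ↥G1) : GL D.Idx K) ∈ D.borelSubgroup K ⊓ D.negUnipotent K :=
      ⟨(hmemB _).1 hb, hYV x hx⟩
    rw [borel_inf_neg D hD, Subgroup.mem_bot] at h1
    have h2 : n * x * n⁻¹ = 1 := Subtype.ext h1
    have : x = n⁻¹ * (n * x * n⁻¹) * n := by group
    rw [this, h2]
    group
  have hmain := Cfsg.Agent.Lib.Helper6.F4Out.trick B X Y n
    (Subgroup.card_map_of_injective (MulAut.conj n).injective)
    (by
      intro y hy hy1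
      obtain ⟨x, hx, rfl⟩ := (hmemY y).1 hy
      have hx1 : x ≠ 1 := by
        rintro rfl
        apply hy1
        group
      obtain ⟨c, hc, x', hx', e⟩ := hcell _ (hYcell x hx hx1)
      exact ⟨c, (hmemB c).2 hc, x', hx', e⟩)
    htriv
    (by
      intro y hy hb
      obtain ⟨x, hx, rfl⟩ := (hmemY y).1 hy
      rw [htriv x hx hb]
      group)
    θ (fun g => hB g)
    (by
      intro y hy
      obtain ⟨x, hx, rfl⟩ := (hmemY y).1 hy
      obtain ⟨x', hx', e⟩ := hθY x hx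
      exact (hmemY _).2 ⟨x', hx', e⟩)
    hθX
    (by
      have h0 : ∃ b₁ ∈ D.borelSubgroup K, ∃ b₂ ∈ D.borelSubgroup K,
          (n : GL D.Idx K) = b₁ * n * b₂ := ⟨1, one_mem _, 1, one_mem _, by simp⟩
      obtain ⟨c, hc, x', hx', e⟩ := hcell _ (hθcell n h0)
      exact ⟨c, (hmemB c).2 hc, x', hx', e⟩)
  intro x hx
  exact hmain _ ((hmemY _).2 ⟨x, hx, rfl⟩)

/-- `n₁`, `n₂` as elements of `G1` -/
noncomputable def gn1 (hq : ∀ x : K, x ^ 2 ^ (2 * m + 1) = x) : ↥(fixG (K := K) m) :=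
  ⟨n1, n1_mem_fix m hq⟩
noncomputable def gn2 (hq : ∀ x : K, x ^ 2 ^ (2 * m + 1) = x) : ↥(fixG (K := K) m) :=
  ⟨n2, n2_mem_fix m hq⟩

/-- `X₁`, `X₂` as subgroups of `G1` -/
def X1sub : Subgroup ↥(fixG (K := K) m) :=
  (unegSub chevF4 K [0, 3] ⊓ fixG m).comap (fixG (K := K) m).subtype
def X2sub : Subgroup ↥(fixG (K := K) m) :=
  (unegSub chevF4 K [1, 2, 1, 2] ⊓ fixG m).comap (fixG (K := K) m).subtype

include hq in
theorem mem_X1sub (g : ↥(fixG (K := K) m)) :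
    g ∈ X1sub (K := K) m ↔ ∃ t, (g : GL chevF4.Idx K) = x1 m t := mem_X1_iff m hq _

include hq in
theorem mem_X2sub (g : ↥(fixG (K := K) m)) :
    g ∈ X2sub (K := K) m ↔ ∃ t u, (g : GL chevF4.Idx K) = x2 m t u := mem_X2_iff m hq _

include hq in
/-- an element of `A0` fixing `X₁` pointwise fixes `Y₁` pointwise -/
theorem fix_y1 (θ : ↥(fixG (K := K) m) ≃* ↥(fixG (K := K) m)) (h : InA0 m θ)
    (h1 : ∀ t, ((θ ⟨x1 m t, x1_mem_fix m hq t⟩ : ↥(fixG (K := K) m)) : GL chevF4.Idx K) = x1 m t)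
    (t : K) :
    θ ⟨y1 m t, y1_mem_fix m hq t⟩ = ⟨y1 m t, y1_mem_fix m hq t⟩ := by
  have : Finite ↥(fixG (K := K) m) := inferInstance
  have hconj : ∀ s : K, gn1 m hq * (⟨x1 m s, x1_mem_fix m hq s⟩ : ↥(fixG (K := K) m))
      * (gn1 m hq)⁻¹ = ⟨y1 m s, y1_mem_fix m hq s⟩ := by
    intro s
    apply Subtype.ext
    exact n1_conj_x1 m s
  have key := fix_conj chevF4 hF4 (fixG (K := K) m) θ (inA0_borel m hq θ h) (gn1 m hq)
    (X1sub (K := K) m)
    (by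
      rintro g ⟨b₁, hb₁, b₂, hb₂, e⟩
      obtain ⟨c, hc, s, es⟩ := cell_n1 m hq _ _ _ g.2 hb₁ hb₂ e
      refine ⟨⟨c, hc.2⟩, hc.1, ⟨x1 m s, x1_mem_fix m hq s⟩, (mem_X1sub m hq _).2 ⟨s, rfl⟩, ?_⟩
      exact Subtype.ext es)
    (fun g hg => (borel_n1 m hq θ (inA0_borel m hq θ h) h.2 g).2 hg)
    (by
      intro x hx hx1
      obtain ⟨s, es⟩ := (mem_X1sub m hq x).1 hx
      have hxs : x = ⟨x1 m s, x1_mem_fix m hq s⟩ := Subtype.ext es
      have hs : s ≠ 0 := by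
        rintro rfl
        apply hx1
        rw [hxs]
        exact Subtype.ext (x1_zero m)
      rw [hxs, hconj]
      exact y1_mem_cell m hq s hs)
    (by
      intro x hx
      obtain ⟨s, es⟩ := (mem_X1sub m hq x).1 hx
      have hxs : x = ⟨x1 m s, x1_mem_fix m hq s⟩ := Subtype.ext es
      rw [hxs, hconj]
      exact y1_mem_neg m s)
    (by
      intro x hx
      obtain ⟨s, es⟩ := (mem_X1sub m hq x).1 hx
      have hxs : x = ⟨x1 m s, x1_mem_fix m hq s⟩ := Subtype.ext es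
      obtain ⟨s', hs'⟩ := inA0_y1 m hq θ h s
      refine ⟨⟨x1 m s', x1_mem_fix m hq s'⟩, (mem_X1sub m hq _).2 ⟨s', rfl⟩, ?_⟩
      rw [hxs, hconj, hconj]
      exact Subtype.ext hs')
    (by
      intro x hx
      obtain ⟨s, es⟩ := (mem_X1sub m hq x).1 hx
      have hxs : x = ⟨x1 m s, x1_mem_fix m hq s⟩ := Subtype.ext es
      rw [hxs]
      exact Subtype.ext (h1 s))
  have := key ⟨x1 m t, x1_mem_fix m hq t⟩ ((mem_X1sub m hq _).2 ⟨t, rfl⟩)
  rwa [hconj] at this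

include hq in
/-- an element of `A0` fixing `X₂` pointwise fixes `Y₂` pointwise -/
theorem fix_y2 (θ : ↥(fixG (K := K) m) ≃* ↥(fixG (K := K) m)) (h : InA0 m θ)
    (h1 : ∀ t u, ((θ ⟨x2 m t u, x2_mem_fix m hq t u⟩ : ↥(fixG (K := K) m)) : GL chevF4.Idx K)
      = x2 m t u) (t u : K) :
    θ ⟨y2 m t u, y2_mem_fix m hq t u⟩ = ⟨y2 m t u, y2_mem_fix m hq t u⟩ := by
  have : Finite ↥(fixG (K := K) m) := inferInstance
  have hconj : ∀ s v : K, gn2 m hq * (⟨x2 m s v, x2_mem_fix m hq s v⟩ : ↥(fixG (K := K) m))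
      * (gn2 m hq)⁻¹ = ⟨y2 m s v, y2_mem_fix m hq s v⟩ := by
    intro s v
    apply Subtype.ext
    exact n2_conj_x2 m s v
  have key := fix_conj chevF4 hF4 (fixG (K := K) m) θ (inA0_borel m hq θ h) (gn2 m hq)
    (X2sub (K := K) m)
    (by
      rintro g ⟨b₁, hb₁, b₂, hb₂, e⟩
      obtain ⟨c, hc, s, v, es⟩ := cell_n2 m hq _ _ _ g.2 hb₁ hb₂ e
      refine ⟨⟨c, hc.2⟩, hc.1, ⟨x2 m s v, x2_mem_fix m hq s v⟩,
        (mem_X2sub m hq _).2 ⟨s, v, rfl⟩, ?_⟩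
      exact Subtype.ext es)
    (fun g hg => (borel_n2 m hq θ (inA0_borel m hq θ h) h.2 g).2 hg)
    (by
      intro x hx hx1
      obtain ⟨s, v, es⟩ := (mem_X2sub m hq x).1 hx
      have hxs : x = ⟨x2 m s v, x2_mem_fix m hq s v⟩ := Subtype.ext es
      have hs : s ≠ 0 ∨ v ≠ 0 := by
        by_contra hc
        push Not at hc
        apply hx1
        rw [hxs]
        apply Subtype.ext
        show x2 m s v = 1
        rw [hc.1, hc.2]
        exact x2_zero m hq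
      rw [hxs, hconj]
      exact y2_mem_cell m hq s v hs)
    (by
      intro x hx
      obtain ⟨s, v, es⟩ := (mem_X2sub m hq x).1 hx
      have hxs : x = ⟨x2 m s v, x2_mem_fix m hq s v⟩ := Subtype.ext es
      rw [hxs, hconj]
      exact y2_mem_neg m s v)
    (by
      intro x hx
      obtain ⟨s, v, es⟩ := (mem_X2sub m hq x).1 hx
      have hxs : x = ⟨x2 m s v, x2_mem_fix m hq s v⟩ := Subtype.ext es
      obtain ⟨s', v', hs'⟩ := inA0_y2 m hq θ h s v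
      refine ⟨⟨x2 m s' v', x2_mem_fix m hq s' v'⟩, (mem_X2sub m hq _).2 ⟨s', v', rfl⟩, ?_⟩
      rw [hxs, hconj, hconj]
      exact Subtype.ext hs')
    (by
      intro x hx
      obtain ⟨s, v, es⟩ := (mem_X2sub m hq x).1 hx
      have hxs : x = ⟨x2 m s v, x2_mem_fix m hq s v⟩ := Subtype.ext es
      rw [hxs]
      exact Subtype.ext (h1 s v))
  have := key ⟨x2 m t u, x2_mem_fix m hq t u⟩ ((mem_X2sub m hq _).2 ⟨t, u, rfl⟩)
  rwa [hconj] at this

include hq in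
/-- RIGIDITY -/
theorem rigid (hm : 1 ≤ m) (hK : Fintype.card K = 2 ^ (2 * m + 1))
    (θ : ↥(fixG (K := K) m) ≃* ↥(fixG (K := K) m)) (h : InA0 m θ)
    (h1 : ∀ t, ((θ ⟨x1 m t, x1_mem_fix m hq t⟩ : ↥(fixG (K := K) m)) : GL chevF4.Idx K) = x1 m t)
    (h2 : ∃ u, ((θ ⟨x2 m 1 0, x2_mem_fix m hq 1 0⟩ : ↥(fixG (K := K) m)) : GL chevF4.Idx K)
      = x2 m 1 u) :
    θ = MulEquiv.refl _ := by
  have hy1 := fix_y1 m hq θ h h1
  -- `θ` fixes the `h(1, z)`
  have hhz : ∀ z : Kˣ, θ ⟨hz m (1, z), hz_mem_fixG m hq _⟩ = ⟨hz m (1, z), hz_mem_fixG m hq _⟩ := by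
    intro z
    obtain ⟨hg', e⟩ := fix_of_closure (fixG (K := K) m)
      {g : GL chevF4.Idx K | ∃ t, g = x1 m t ∨ g = y1 m t} θ (by
        rintro s ⟨t, rfl | rfl⟩
        · exact ⟨x1_mem_fix m hq t, Subtype.ext (h1 t)⟩
        · exact ⟨y1_mem_fix m hq t, hy1 t⟩) _ (hz_one_mem_closure m z)
    exact e
  -- coordinates on `X₂`
  choose α β hαβ using inA0_x2 m hq θ h
  have hmul : ∀ t u s v, α (t + s) (u + v + s * ph m t) = α t u + α s v ∧
      β (t + s) (u + v + s * ph m t) = β t u + β s v + α s v * ph m (α t u) := by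
    intro t u s v
    apply x2_injective m
    have e : (⟨x2 m (t + s) (u + v + s * ph m t), x2_mem_fix m hq _ _⟩ : ↥(fixG (K := K) m))
        = ⟨x2 m t u, x2_mem_fix m hq t u⟩ * ⟨x2 m s v, x2_mem_fix m hq s v⟩ :=
      Subtype.ext (x2_mul m hq t u s v).symm
    calc x2 m (α (t + s) (u + v + s * ph m t)) (β (t + s) (u + v + s * ph m t))
        = ((θ ⟨x2 m (t + s) (u + v + s * ph m t), x2_mem_fix m hq _ _⟩ :
            ↥(fixG (K := K) m)) : GL chevF4.Idx K) := (hαβ _ _).symm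
      _ = ((θ ⟨x2 m t u, x2_mem_fix m hq t u⟩ : ↥(fixG (K := K) m)) : GL chevF4.Idx K)
          * ((θ ⟨x2 m s v, x2_mem_fix m hq s v⟩ : ↥(fixG (K := K) m)) : GL chevF4.Idx K) := by
        rw [e, map_mul]; rfl
      _ = x2 m (α t u + α s v) (β t u + β s v + α s v * ph m (α t u)) := by
        rw [hαβ, hαβ, x2_mul m hq]
  have htor : ∀ (c : K) (hc : c ≠ 0) (t u : K),
      α (c * t) (c * ph m c * u) = c * α t u ∧ β (c * t) (c * ph m c * u) = c * ph m c * β t u := by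
    intro c hc t u
    set z : Kˣ := (Units.mk0 c hc)⁻¹ with hzdef
    have hzc : ((chi2 m ((1 : Kˣ), z) : Kˣ) : K) = c := by
      simp [chi2, hzdef]
    set hh : ↥(fixG (K := K) m) := ⟨hz m (1, z), hz_mem_fixG m hq _⟩ with hhdef
    apply x2_injective m
    have e : (⟨x2 m (c * t) (c * ph m c * u), x2_mem_fix m hq _ _⟩ : ↥(fixG (K := K) m))
        = hh * ⟨x2 m t u, x2_mem_fix m hq t u⟩ * hh⁻¹ := by
      apply Subtype.ext
      show x2 m (c * t) (c * ph m c * u) = hz m (1, z) * x2 m t u * (hz m (1, z))⁻¹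
      rw [hz_conj_x2 m hq, hzc]
    calc x2 m (α (c * t) (c * ph m c * u)) (β (c * t) (c * ph m c * u))
        = ((θ ⟨x2 m (c * t) (c * ph m c * u), x2_mem_fix m hq _ _⟩ :
            ↥(fixG (K := K) m)) : GL chevF4.Idx K) := (hαβ _ _).symm
      _ = ((θ hh : ↥(fixG (K := K) m)) : GL chevF4.Idx K)
          * ((θ ⟨x2 m t u, x2_mem_fix m hq t u⟩ : ↥(fixG (K := K) m)) : GL chevF4.Idx K)
          * ((θ hh : ↥(fixG (K := K) m)) : GL chevF4.Idx K)⁻¹ := by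
        rw [e, map_mul, map_mul, map_inv]; rfl
      _ = x2 m (c * α t u) (c * ph m c * β t u) := by
        rw [hαβ, hhz z, hz_conj_x2 m hq, hzc]
  have h2K : ∀ x : K, x + x = 0 := CharTwo.add_self_eq_zero
  -- `θ 1 = 1`
  have h00 : α 0 0 = 0 ∧ β 0 0 = 0 := by
    apply x2_injective m
    have e : (⟨x2 m 0 0, x2_mem_fix m hq 0 0⟩ : ↥(fixG (K := K) m)) = 1 :=
      Subtype.ext (x2_zero m hq)
    have e2 := hαβ 0 0
    rw [e, map_one] at e2
    rw [← e2, x2_zero m hq]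
    rfl
  -- `α 0 u = 0`
  have hα0 : ∀ u, α 0 u = 0 := by
    intro u
    have := (hmul 0 u 0 u).2
    rw [add_zero, h2K u, zero_mul, add_zero, h00.2, h2K (β 0 u), zero_add] at this
    rcases mul_eq_zero.1 this.symm with h' | h'
    · exact h'
    · rw [ph_apply] at h'
      exact pow_eq_zero_iff (by positivity) |>.1 h'
  have hαu : ∀ t u, α t u = α t 0 := by
    intro t u
    have := (hmul t 0 0 u).1
    rw [add_zero, zero_add, zero_mul, add_zero, hα0, add_zero] at this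
    exact this
  have hβu : ∀ t u, β t u = β t 0 + β 0 u := by
    intro t u
    have := (hmul t 0 0 u).2
    rw [add_zero, zero_add, zero_mul, add_zero, hα0, zero_mul, add_zero] at this
    exact this
  -- `a = α · 0` is the identity
  have ha_add : ∀ t s, α (t + s) 0 = α t 0 + α s 0 := by
    intro t s
    have := (hmul t 0 s 0).1
    rw [hαu] at this
    exact this
  have ha_one : α 1 0 = 1 := by
    obtain ⟨u₀, hu₀⟩ := h2
    rw [hαβ] at hu₀
    exact (x2_injective m _ _ _ _ hu₀).1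
  have ha : ∀ t, α t 0 = t := by
    intro t
    by_cases ht : t = 0
    · rw [ht]; exact h00.1
    · have := (htor t ht 1 0).1
      rw [mul_one, mul_zero, ha_one, mul_one] at this
      exact this
  -- `β 0 u = u`
  have hβ0 : ∀ u, β 0 u = u := by
    intro u
    obtain ⟨t, ht⟩ := exists_mul_ph m hK u
    have := (hmul t 0 t 0).2
    rw [h2K t, add_zero, zero_add, h2K (β t 0), zero_add, ha t, ht] at this
    exact this
  -- `g = β · 0` vanishes
  have hg_add : ∀ t s, β (t + s) 0 = β t 0 + β s 0 := by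
    intro t s
    have := (hmul t 0 s 0).2
    rw [add_zero, zero_add, hβu (t + s) (s * ph m t), hβ0, ha, ha] at this
    exact add_right_cancel this
  have hg_tor : ∀ c : K, c ≠ 0 → β c 0 = c * ph m c * β 1 0 := by
    intro c hc
    have := (htor c hc 1 0).2
    rw [mul_one, mul_zero] at this
    exact this
  have hγ : β 1 0 = 0 := by
    obtain ⟨c, hc0, hc⟩ := exists_ph_ne m hm hK
    have hc1 : c + 1 ≠ 0 := by
      intro h'
      have : c = 1 := by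
        have := congrArg (· + 1) h'
        simp only [add_assoc, h2K, add_zero, zero_add] at this
        exact this
      apply hc
      rw [this, map_one]
    have e1 := hg_add c 1
    rw [hg_tor c hc0, hg_tor (c + 1) hc1, map_add, map_one] at e1
    have e2 : (c + ph m c) * β 1 0 = 0 := by
      linear_combination e1
    rcases mul_eq_zero.1 e2 with h' | h'
    · exfalso
      apply hc
      have := congrArg (· + c) h'
      simp only [zero_add] at this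
      rw [add_comm c, add_assoc, h2K, add_zero] at this
      exact this
    · exact h'
  have hg : ∀ t, β t 0 = 0 := by
    intro t
    by_cases ht : t = 0
    · rw [ht]; exact h00.2
    · rw [hg_tor t ht, hγ, mul_zero]
  have hx2 : ∀ t u, ((θ ⟨x2 m t u, x2_mem_fix m hq t u⟩ : ↥(fixG (K := K) m)) :
      GL chevF4.Idx K) = x2 m t u := by
    intro t u
    rw [hαβ, hαu, ha, hβu, hg, hβ0, zero_add]
  have hy2 := fix_y2 m hq θ h hx2
  -- conclusion
  apply Cfsg.Agent.Lib.Helper7.TwOut.mulEquiv_ext_of_closure (fixG (K := K) m) _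
    (fixG_eq_closure m hK)
  rintro g (⟨t, e | e⟩ | ⟨t, u, e | e⟩)
  · have : g = ⟨x1 m t, x1_mem_fix m hq t⟩ := Subtype.ext e
    rw [this]
    exact Subtype.ext (h1 t)
  · have : g = ⟨y1 m t, y1_mem_fix m hq t⟩ := Subtype.ext e
    rw [this]
    exact hy1 t
  · have : g = ⟨x2 m t u, x2_mem_fix m hq t u⟩ := Subtype.ext e
    rw [this]
    exact Subtype.ext (hx2 t u)
  · have : g = ⟨y2 m t u, y2_mem_fix m hq t u⟩ := Subtype.ext e
    rw [this]
    exact hy2 t u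

end Cfsg.Agent.Lib.Helper1.F4Out
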