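import Mathlib
import Cfsg.Agent.Lib.Helper1.F4Out.Rigid
import Cfsg.Agent.Lib.Helper4.Suz29

set_option autoImplicit false
set_option linter.unusedVariables false
set_option linter.unusedSectionVars false

/-!
# F4OUT farm: the count `|Out(²F₄(q))| = 2m + 1`
-/

namespace Cfsg.Agent.Lib.Helper1.F4Out

open Cfsg Cfsg.Lie Cfsg.Agent.Lib.Helper5.ChevSym Cfsg.Agent.Lib.Helper5.ChevSymP
  Cfsg.Agent.Lib.Helper5.ChevStruct Cfsg.Agent.Lib.Helper5.Ree Cfsg.Agent.Lib.Helper5.TwX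
  Cfsg.Agent.Lib.Helper5.MatPow Cfsg.Agent.Lib.Helper5.F4T Cfsg.Agent.Lib.Helper5.TwAut
open Cfsg.Agent.Lib.Helper2.F4Out Cfsg.Agent.Lib.Helper5.F4Out Cfsg.Agent.Lib.Helper4.F4Out
  Cfsg.Agent.Lib.Helper9.F4Out Cfsg.Agent.Lib.Helper6.F4Out

variable {K : Type*} [Field K] [Fintype K] [CharP K 2] (m : ℕ)
  (hq : ∀ x : K, x ^ 2 ^ (2 * m + 1) = x)

/-! ### field automorphisms -/

/-- the field automorphism of `G1` induced by `ψ` -/
noncomputable def fieldAutG (hq : ∀ x : K, x ^ 2 ^ (2 * m + 1) = x)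
    (hK : Fintype.card K = 2 ^ (2 * m + 1)) (ψ : K ≃+* K) : MulAut ↥(fixG (K := K) m) where
  toFun g := ⟨Matrix.GeneralLinearGroup.map ψ.toRingHom g.1, glMap_mem_fix m hq hK ψ g.1 g.2⟩
  invFun g := ⟨Matrix.GeneralLinearGroup.map ψ.symm.toRingHom g.1,
    glMap_mem_fix m hq hK ψ.symm g.1 g.2⟩
  left_inv g := by
    apply Subtype.ext
    apply Units.ext
    ext i j
    simp
  right_inv g := by
    apply Subtype.ext
    apply Units.ext
    ext i j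
    simp
  map_mul' a b := by
    apply Subtype.ext
    simp [map_mul]

theorem fieldAutG_coe (hK : Fintype.card K = 2 ^ (2 * m + 1)) (ψ : K ≃+* K)
    (g : ↥(fixG (K := K) m)) :
    ((fieldAutG m hq hK ψ g : ↥(fixG (K := K) m)) : GL chevF4.Idx K)
      = Matrix.GeneralLinearGroup.map ψ.toRingHom g.1 := rfl

theorem fieldAutG_mul (hK : Fintype.card K = 2 ^ (2 * m + 1)) (ψ₁ ψ₂ : K ≃+* K) :
    fieldAutG m hq hK (ψ₁ * ψ₂) = fieldAutG m hq hK ψ₁ * fieldAutG m hq hK ψ₂ := by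
  apply MulEquiv.ext
  intro g
  apply Subtype.ext
  apply Units.ext
  ext i j
  simp [fieldAutG_coe]

theorem fieldAutG_one (hK : Fintype.card K = 2 ^ (2 * m + 1)) :
    fieldAutG m hq hK (1 : K ≃+* K) = 1 := by
  apply MulEquiv.ext
  intro g
  apply Subtype.ext
  apply Units.ext
  ext i j
  simp [fieldAutG_coe]

/-! ### `A0` is a group containing the field and the diagonal automorphisms -/

theorem inA0_mul (θ₁ θ₂ : MulAut ↥(fixG (K := K) m)) (h₁ : InA0 m θ₁) (h₂ : InA0 m θ₂) :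
    InA0 m (θ₁ * θ₂) :=
  ⟨fun g => by rw [MulAut.mul_apply, h₁.1, h₂.1], fun g => by rw [MulAut.mul_apply, h₁.2, h₂.2]⟩

theorem inA0_inv (θ : MulAut ↥(fixG (K := K) m)) (h : InA0 m θ) : InA0 m θ⁻¹ :=
  ⟨fun g => by rw [← h.1 (θ⁻¹ g), MulAut.apply_inv_self],
    fun g => by rw [← h.2 (θ⁻¹ g), MulAut.apply_inv_self]⟩

theorem inA0_fieldAutG (hK : Fintype.card K = 2 ^ (2 * m + 1)) (ψ : K ≃+* K) :
    InA0 m (fieldAutG m hq hK ψ) :=
  ⟨fun g => by rw [fieldAutG_coe]; exact glMap_mem_pos ψ g.1,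
    fun g => by rw [fieldAutG_coe]; exact glMap_mem_neg ψ g.1⟩

/-- `h(y, z)` as an element of `G1` -/
noncomputable def ghz (hq : ∀ x : K, x ^ 2 ^ (2 * m + 1) = x) (p : Kˣ × Kˣ) :
    ↥(fixG (K := K) m) := ⟨hz m p, hz_mem_fixG m hq p⟩

theorem inA0_conj_ghz (p : Kˣ × Kˣ) : InA0 m (MulAut.conj (ghz m hq p)) := by
  have hd := hz_mem_diag (K := K) m p
  have h1 := diagonal_le_normalizer_pos chevF4 hF4 hd
  have h2 := diagonal_le_normalizer_neg chevF4 hF4 hd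
  rw [Subgroup.mem_normalizer_iff] at h1 h2
  refine ⟨fun g => ?_, fun g => ?_⟩
  · have : ((MulAut.conj (ghz m hq p) g : ↥(fixG (K := K) m)) : GL chevF4.Idx K)
        = hz m p * g * (hz m p)⁻¹ := rfl
    rw [this]
    exact (h1 _).symm
  · have : ((MulAut.conj (ghz m hq p) g : ↥(fixG (K := K) m)) : GL chevF4.Idx K)
        = hz m p * g * (hz m p)⁻¹ := rfl
    rw [this]
    exact (h2 _).symm

/-! ### every element of `A0` is diagonal times field -/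

include hq in
theorem inA0_eq (hm : 1 ≤ m) (hK : Fintype.card K = 2 ^ (2 * m + 1))
    (θ : MulAut ↥(fixG (K := K) m)) (h : InA0 m θ) :
    ∃ (p : Kˣ × Kˣ) (ψ : K ≃+* K), θ = MulAut.conj (ghz m hq p) * fieldAutG m hq hK ψ := by
  obtain ⟨a, ψ, ha, hθ1⟩ := inA0_shape_x1 m hq hK θ h
  obtain ⟨b, u₀, hb⟩ := inA0_x2 m hq θ h 1 0
  -- `b ≠ 0`
  have hb0 : b ≠ 0 := by
    rintro rfl
    have hsq : (⟨x2 m 1 0, x2_mem_fix m hq 1 0⟩ : ↥(fixG (K := K) m))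
        * ⟨x2 m 1 0, x2_mem_fix m hq 1 0⟩ = ⟨x2 m 0 1, x2_mem_fix m hq 0 1⟩ := by
      apply Subtype.ext
      show x2 m 1 0 * x2 m 1 0 = x2 m 0 1
      rw [x2_mul m hq, CharTwo.add_self_eq_zero, add_zero, map_one, mul_one, zero_add]
    have h1 : ((θ (⟨x2 m 1 0, x2_mem_fix m hq 1 0⟩ * ⟨x2 m 1 0, x2_mem_fix m hq 1 0⟩) :
        ↥(fixG (K := K) m)) : GL chevF4.Idx K) = 1 := by
      rw [map_mul]
      show ((θ ⟨x2 m 1 0, x2_mem_fix m hq 1 0⟩ : ↥(fixG (K := K) m)) : GL chevF4.Idx K)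
        * ((θ ⟨x2 m 1 0, x2_mem_fix m hq 1 0⟩ : ↥(fixG (K := K) m)) : GL chevF4.Idx K) = 1
      rw [hb, x2_mul m hq, CharTwo.add_self_eq_zero, CharTwo.add_self_eq_zero, zero_add,
        zero_mul]
      exact x2_zero m hq
    rw [hsq] at h1
    have h2 : θ ⟨x2 m 0 1, x2_mem_fix m hq 0 1⟩ = 1 := Subtype.ext h1
    have h3 : (⟨x2 m 0 1, x2_mem_fix m hq 0 1⟩ : ↥(fixG (K := K) m)) = 1 := by
      rw [← map_one θ] at h2
      exact θ.injective h2
    have h4 : x2 m (0 : K) 1 = x2 m 0 0 := by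
      rw [x2_zero m hq]
      exact congrArg Subtype.val h3
    exact one_ne_zero (x2_injective m _ _ _ _ h4).2
  obtain ⟨p, hp1, hp2⟩ := chi_surj m hK (Units.mk0 a ha) (Units.mk0 b hb0)
  refine ⟨p, ψ, ?_⟩
  set ρ : MulAut ↥(fixG (K := K) m) := MulAut.conj (ghz m hq p) * fieldAutG m hq hK ψ with hρ
  have hρA : InA0 m ρ := inA0_mul m _ _ (inA0_conj_ghz m hq p) (inA0_fieldAutG m hq hK ψ)
  have hρx1 : ∀ t, ((ρ ⟨x1 m t, x1_mem_fix m hq t⟩ : ↥(fixG (K := K) m)) : GL chevF4.Idx K)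
      = x1 m (a * ψ t) := by
    intro t
    show hz m p * (Matrix.GeneralLinearGroup.map ψ.toRingHom (x1 m t)) * (hz m p)⁻¹ = _
    rw [glMap_x1, hz_conj_x1, hp1]
    rfl
  have hρx2 : ∀ t u, ((ρ ⟨x2 m t u, x2_mem_fix m hq t u⟩ : ↥(fixG (K := K) m)) : GL chevF4.Idx K)
      = x2 m (b * ψ t) (b * ph m b * ψ u) := by
    intro t u
    show hz m p * (Matrix.GeneralLinearGroup.map ψ.toRingHom (x2 m t u)) * (hz m p)⁻¹ = _
    rw [glMap_x2, hz_conj_x2 m hq, hp2]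
    rfl
  -- `θ' = ρ⁻¹ θ` is rigid
  have hθ' : InA0 m (ρ⁻¹ * θ) := inA0_mul m _ _ (inA0_inv m _ hρA) h
  have key : (ρ⁻¹ * θ : MulAut ↥(fixG (K := K) m)) = MulEquiv.refl _ := by
    apply rigid m hq hm hK _ hθ'
    · intro t
      have e : θ ⟨x1 m t, x1_mem_fix m hq t⟩ = ρ ⟨x1 m t, x1_mem_fix m hq t⟩ :=
        Subtype.ext ((hθ1 t).trans (hρx1 t).symm)
      rw [MulAut.mul_apply, e, MulAut.inv_apply_self]
    · -- `θ (x₂(1,0)) = x₂(b, u₀) = ρ (x₂(1, u₁))`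
      refine ⟨ψ.symm ((b * ph m b)⁻¹ * u₀), ?_⟩
      have hbb : b * ph m b ≠ 0 := mul_ne_zero hb0 ((map_ne_zero _).2 hb0)
      have e : θ ⟨x2 m 1 0, x2_mem_fix m hq 1 0⟩
          = ρ ⟨x2 m 1 (ψ.symm ((b * ph m b)⁻¹ * u₀)), x2_mem_fix m hq _ _⟩ := by
        apply Subtype.ext
        rw [hb, hρx2, map_one, mul_one, RingEquiv.apply_symm_apply, mul_inv_cancel_left₀ hbb]
      rw [MulAut.mul_apply, e, MulAut.inv_apply_self]
  have : θ = ρ := by
    have h5 : ρ * (ρ⁻¹ * θ) = ρ * 1 := by rw [key]; rfl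
    rwa [mul_inv_cancel_left, mul_one] at h5
  exact this

/-! ### a nontrivial field automorphism is not inner -/

include hq in
theorem fieldAutG_inner (hK : Fintype.card K = 2 ^ (2 * m + 1)) (ψ : K ≃+* K)
    (g : ↥(fixG (K := K) m)) (h : fieldAutG m hq hK ψ = MulAut.conj g) : ψ = 1 := by
  have hA := inA0_fieldAutG m hq hK ψ
  rw [h] at hA
  have hgH : (g : GL chevF4.Idx K) ∈ chevF4.diagonalSubgroup K := by
    rw [mem_diag_iff m hq _ g.2]
    refine ⟨fun u hu => ?_, fun v hv => ?_⟩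
    · have := (hA.1 ⟨u, hu.2⟩).2 hu.1
      exact this
    · have := (hA.2 ⟨v, hv.2⟩).2 hv.1
      exact this
  obtain ⟨p, hp⟩ := (diag_fix_iff m hq _).1 ⟨hgH, g.2⟩
  have key : ∀ t : K, (chi1 p : K) * t = ψ t := by
    intro t
    apply x1_injective m
    rw [← hz_conj_x1, ← hp, ← glMap_x1]
    have e1 : ((fieldAutG m hq hK ψ ⟨x1 m t, x1_mem_fix m hq t⟩ : ↥(fixG (K := K) m)) :
        GL chevF4.Idx K) = Matrix.GeneralLinearGroup.map ψ.toRingHom (x1 m t) := rfl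
    rw [← e1, h]
    rfl
  have h1 := key 1
  rw [mul_one, map_one] at h1
  ext t
  rw [← key t, h1, one_mul]
  rfl

/-! ### the count -/

include hq in
theorem card_out_fixG (hm : 1 ≤ m) (hK : Fintype.card K = 2 ^ (2 * m + 1)) :
    Nat.card (Cfsg.Out ↥(fixG (K := K) m)) = 2 * m + 1 := by
  rw [← Cfsg.Agent.Lib.Helper4.Suz.card_ringEquiv hK]
  symm
  apply Nat.card_congr
  refine Equiv.ofBijective (fun ψ : K ≃+* K =>
    (QuotientGroup.mk (fieldAutG m hq hK ψ) : Cfsg.Out ↥(fixG (K := K) m))) ⟨?_, ?_⟩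
  · intro ψ₁ ψ₂ h
    have h' := QuotientGroup.eq.1 h
    obtain ⟨g, hg⟩ := h'
    have e : fieldAutG m hq hK (ψ₁⁻¹ * ψ₂) = MulAut.conj g := by
      rw [fieldAutG_mul, hg]
      congr 1
    have := fieldAutG_inner m hq hK _ g e
    exact inv_mul_eq_one.1 this
  · intro x
    induction x using QuotientGroup.induction_on with
    | H θ =>
      obtain ⟨y, hy⟩ := exists_conj_inA0 m hq hK θ
      obtain ⟨p, ψ, e⟩ := inA0_eq m hq hm hK _ hy
      refine ⟨ψ, ?_⟩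
      show (QuotientGroup.mk (fieldAutG m hq hK ψ) : Cfsg.Out ↥(fixG (K := K) m))
        = QuotientGroup.mk θ
      rw [QuotientGroup.eq]
      -- `θ.trans (conj y) = conj y * θ`
      have e' : (MulAut.conj y * θ : MulAut ↥(fixG (K := K) m))
          = MulAut.conj (ghz m hq p) * fieldAutG m hq hK ψ := e
      have e2 : θ = (MulAut.conj y)⁻¹ * (MulAut.conj (ghz m hq p) * fieldAutG m hq hK ψ) := by
        rw [← e', inv_mul_cancel_left]
      have hn := Cfsg.innNormal ↥(fixG (K := K) m)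
      have hin : (MulAut.conj y)⁻¹ * MulAut.conj (ghz m hq p) ∈ Cfsg.Inn ↥(fixG (K := K) m) :=
        mul_mem (inv_mem ⟨y, rfl⟩) ⟨ghz m hq p, rfl⟩
      have := hn.conj_mem _ hin (fieldAutG m hq hK ψ)⁻¹
      have e3 : (fieldAutG m hq hK ψ)⁻¹ * θ = (fieldAutG m hq hK ψ)⁻¹
          * ((MulAut.conj y)⁻¹ * MulAut.conj (ghz m hq p)) * (fieldAutG m hq hK ψ)⁻¹⁻¹ := by
        rw [e2]
        group
      rw [e3]
      exact this

/-- S2128 -/
theorem card_out_twistedF4 {K : Type*} [Field K] [Fintype K] {m : ℕ} (hm : 1 ≤ m)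
    (hK : Fintype.card K = 2 ^ (2 * m + 1)) :
    Nat.card (Cfsg.Out ↥(Cfsg.Lie.twistedF4 K (2 ^ m))) = 2 * m + 1 := by
  have : CharP K 2 := charP_of_card hK
  have hq := pow_card_eq hK
  have e := twisted_eq_fixG m hK hq
  rw [Cfsg.Agent.Lib.Helper4.Suz.card_out_congr (MulEquiv.subgroupCongr e)]
  exact card_out_fixG m hq hm hK

end Cfsg.Agent.Lib.Helper1.F4Out
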